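/-
Algebra for sections of flat quasi-finite algebras lying in a torsion free module (helper33).
-/
import Mathlib.RingTheory.QuasiFinite.Basic
import Mathlib.RingTheory.Flat.EquationalCriterion
import Mathlib.RingTheory.Flat.Stability
import Mathlib.RingTheory.Localization.Free
import Mathlib.RingTheory.LocalRing.Module
import Mathlib.RingTheory.LocalRing.ResidueField.Fiber
import Mathlib.RingTheory.Finiteness.ModuleFinitePresentation
import Mathlib.RingTheory.Ideal.GoingUp
import Mathlib.RingTheory.TensorProduct.Quotient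

set_option autoImplicit false
universe u
open TensorProduct Polynomial

namespace Groth.Agent.QFTorsion

section
variable {A B : Type u} [CommRing A] [CommRing B] [Algebra A B]

theorem exists_fg_mem_map (p : Ideal A) {y : B} (hy : y ∈ p.map (algebraMap A B)) :
    ∃ J : Ideal A, J.FG ∧ J ≤ p ∧ y ∈ J.map (algebraMap A B) := by
  rw [Ideal.map] at hy
  induction hy using Submodule.span_induction with
  | mem z hz =>
    obtain ⟨a, ha, rfl⟩ := hz
    exact ⟨Ideal.span {a}, Submodule.fg_span_singleton a, (Ideal.span_singleton_le_iff_mem _).mpr ha,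
      Ideal.mem_map_of_mem _ (Ideal.mem_span_singleton_self a)⟩
  | zero => exact ⟨⊥, Submodule.fg_bot, bot_le, zero_mem _⟩
  | add z w _ _ hz hw =>
    obtain ⟨J, hJ, hJp, hzJ⟩ := hz
    obtain ⟨J', hJ', hJp', hwJ⟩ := hw
    exact ⟨J ⊔ J', Submodule.FG.sup hJ hJ', sup_le hJp hJp', Ideal.add_mem _
      (Ideal.map_mono le_sup_left hzJ) (Ideal.map_mono le_sup_right hwJ)⟩
  | smul b z _ hz =>
    obtain ⟨J, hJ, hJp, hzJ⟩ := hz
    exact ⟨J, hJ, hJp, Ideal.mul_mem_left _ b hzJ⟩

/-- Elements killed in the fibre ring at `p`. -/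
theorem exists_mul_mem_of_fiber_eq_zero (p : Ideal A) [p.IsPrime] {y : B}
    (hy : (1 : p.ResidueField) ⊗ₜ[A] y = 0) :
    ∃ a ∉ p, algebraMap A B a * y ∈ p.map (algebraMap A B) := by
  let _ : Algebra B (p.Fiber B) := Algebra.TensorProduct.rightAlgebra
  have h := (Ideal.Fiber.algEquivAux₁ (S := B) p).commutes y
  rw [show algebraMap B (p.Fiber B) y = (1 : p.ResidueField) ⊗ₜ[A] y from rfl, hy, map_zero,
    IsScalarTower.algebraMap_apply B (Localization (Algebra.algebraMapSubmonoid B p.primeCompl)),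
    Ideal.Quotient.algebraMap_eq, eq_comm, Ideal.Quotient.eq_zero_iff_mem,
    IsLocalization.algebraMap_mem_map_algebraMap_iff (Algebra.algebraMapSubmonoid B p.primeCompl)] at h
  obtain ⟨_, ⟨a, ha, rfl⟩, h⟩ := h
  exact ⟨a, ha, h⟩

/-- Every element of a quasi-finite algebra satisfies, near `p`, a polynomial equation modulo `p`
with unit leading coefficient. -/
theorem exists_equation [Algebra.QuasiFinite A B] (p : Ideal A) [p.IsPrime] (x : B) :
    ∃ (a : A) (n : ℕ) (t : Fin n → A), a ∉ p ∧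
      algebraMap A B a * x ^ n + ∑ i, algebraMap A B (t i) * x ^ (i : ℕ) ∈ p.map (algebraMap A B) := by
  classical
  have hint : IsIntegral p.ResidueField ((1 : p.ResidueField) ⊗ₜ[A] x : p.Fiber B) :=
    Algebra.IsIntegral.isIntegral _
  obtain ⟨P, hP, hPx⟩ := hint
  have hsurj : ∀ c : p.ResidueField, ∃ r ∉ p, ∃ s : A,
      algebraMap A p.ResidueField r * c = algebraMap A p.ResidueField s := by
    intro c
    obtain ⟨⟨s, ⟨r, hr⟩⟩, h⟩ := IsLocalization.surj (nonZeroDivisors (A ⧸ p)) c
    obtain ⟨s, rfl⟩ := Ideal.Quotient.mk_surjective s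
    obtain ⟨r, rfl⟩ := Ideal.Quotient.mk_surjective r
    refine ⟨r, fun hrp ↦ nonZeroDivisors.ne_zero hr (Ideal.Quotient.eq_zero_iff_mem.mpr hrp), s, ?_⟩
    rw [mul_comm, IsScalarTower.algebraMap_apply A (A ⧸ p), IsScalarTower.algebraMap_apply A (A ⧸ p)]
    exact h
  choose r hr s hs using fun i : Fin P.natDegree ↦ hsurj (P.coeff i)
  let a := ∏ i, r i
  have ha : a ∉ p := fun h ↦ by
    obtain ⟨i, -, hi⟩ := (Ideal.IsPrime.prod_mem_iff (p := p)).mp h
    exact hr i hi
  let t : Fin P.natDegree → A := fun i ↦ (∏ j ∈ Finset.univ.erase i, r j) * s i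
  have ht : ∀ i, algebraMap A p.ResidueField (t i) = algebraMap A p.ResidueField a * P.coeff i := by
    intro i
    simp only [t, a, ← Finset.mul_prod_erase _ r (Finset.mem_univ i), map_mul, ← hs i]
    ring
  let y := algebraMap A B a * x ^ P.natDegree + ∑ i, algebraMap A B (t i) * x ^ (i : ℕ)
  have hy : (1 : p.ResidueField) ⊗ₜ[A] y = 0 := by
    let ι : B →ₐ[A] p.Fiber B := Algebra.TensorProduct.includeRight
    have hι : ∀ c : A, ι (algebraMap A B c) =
        algebraMap p.ResidueField (p.Fiber B) (algebraMap A p.ResidueField c) := fun c ↦ by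
      rw [AlgHom.commutes, ← IsScalarTower.algebraMap_apply]
    change ι y = 0
    simp only [y, map_add, map_mul, map_sum, map_pow, hι, ht, mul_assoc, ← Finset.mul_sum, ← mul_add]
    refine mul_eq_zero_of_right _ ?_
    rw [← aeval_def, aeval_eq_sum_range, Finset.sum_range_succ, hP.coeff_natDegree, one_smul,
      ← Fin.sum_univ_eq_sum_range (fun i ↦ P.coeff i • (((1 : p.ResidueField) ⊗ₜ[A] x : p.Fiber B)) ^ i)] at hPx
    simp only [Algebra.smul_def] at hPx
    rw [add_comm]
    exact hPx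
  obtain ⟨a', ha', hmem⟩ := exists_mul_mem_of_fiber_eq_zero p hy
  refine ⟨a' * a, P.natDegree, fun i ↦ a' * t i,
    fun h ↦ (Ideal.IsPrime.mem_or_mem ‹_› h).elim ha' ha, ?_⟩
  simp only [y, mul_add, Finset.mul_sum, ← mul_assoc, ← map_mul] at hmem
  exact hmem

/-- First stage: after inverting an element outside `p` the algebra is finite modulo a finitely
generated ideal contained in `p` which kills `g` near `q`. -/
theorem exists_finite_mod [Algebra.FiniteType A B] [Algebra.QuasiFinite A B] (q : Ideal B) [q.IsPrime]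
    (g : B) (hg : ∀ y ∈ q, ∃ c ∉ q, ∃ n : ℕ, c * y ^ n * g = 0) :
    ∃ (a : A) (K : Ideal A) (c : B), a ∉ q.under A ∧ K.FG ∧ K ≤ q.under A ∧ c ∉ q ∧
      (∀ y ∈ K, c * algebraMap A B y * g = 0) ∧
      ∀ (A' B' : Type u) [CommRing A'] [CommRing B'] [Algebra A A'] [Algebra B B'] [Algebra A B']
        [Algebra A' B'] [IsScalarTower A A' B'] [IsScalarTower A B B'] [IsLocalization.Away a A']
        [IsLocalization.Away (algebraMap A B a) B'],
        Module.Finite A' (B' ⧸ (K.map (algebraMap A A')).map (algebraMap A' B')) := by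
  classical
  let p := q.under A
  obtain ⟨xs, hxs⟩ := ‹Algebra.FiniteType A B›.out
  choose a n t ha hmem using fun x : B ↦ exists_equation p x
  choose J hJfg hJp hJmem using fun x : B ↦ exists_fg_mem_map p (hmem x)
  let J₀ := xs.sup J
  have hJ₀fg : J₀.FG := Finset.sup_induction Submodule.fg_bot (fun _ h _ h' ↦ Submodule.FG.sup h h') fun x _ ↦ hJfg x
  have hJ₀p : J₀ ≤ p := Finset.sup_le fun x _ ↦ hJp x
  let I : Ideal A :=
    { carrier := {y | ∃ c ∉ q, c * algebraMap A B y * g = 0}
      add_mem' := fun {y z} ⟨c, hc, h⟩ ⟨c', hc', h'⟩ ↦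
        ⟨c * c', fun hm ↦ (Ideal.IsPrime.mem_or_mem ‹_› hm).elim hc hc', by
          rw [map_add]; linear_combination c' * h + c * h'⟩
      zero_mem' := ⟨1, fun h ↦ ‹q.IsPrime›.ne_top ((Ideal.eq_top_iff_one _).mpr h), by simp⟩
      smul_mem' := fun r y ⟨c, hc, h⟩ ↦ ⟨c, hc, by
        rw [smul_eq_mul, map_mul]; linear_combination algebraMap A B r * h⟩ }
  have hrad : J₀ ≤ I.radical := fun y hy ↦ by
    obtain ⟨c, hc, k, h⟩ := hg _ (hJ₀p hy)
    exact ⟨k, c, hc, by rw [map_pow]; exact h⟩
  obtain ⟨M, hM⟩ := Ideal.exists_pow_le_of_le_radical_of_fg hrad hJ₀fg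
  let K := J₀ ^ (M + 1)
  obtain ⟨s, hs⟩ := (hJ₀fg.pow : K.FG)
  have hKI : K ≤ I := (Ideal.pow_le_pow_right (Nat.le_succ M)).trans hM
  choose cc hcc hccg using fun y : s ↦ hKI (hs.le (Ideal.subset_span y.2) : (y : A) ∈ K)
  refine ⟨∏ x ∈ xs, a x, K, ∏ y, cc y, ?_, ⟨s, hs⟩,
    (Ideal.pow_le_self (Nat.succ_ne_zero M)).trans hJ₀p, ?_, ?_, ?_⟩
  · intro h
    obtain ⟨x, -, hx⟩ := (Ideal.IsPrime.prod_mem_iff (p := p)).mp h
    exact ha x hx
  · intro h
    obtain ⟨y, -, hy⟩ := (Ideal.IsPrime.prod_mem_iff (p := q)).mp h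
    exact hcc y hy
  · intro y hy
    replace hy : y ∈ Ideal.span (s : Set A) := hs.ge hy
    induction hy using Submodule.span_induction with
    | mem y hy =>
      rw [← Finset.mul_prod_erase _ cc (Finset.mem_univ (⟨y, hy⟩ : s))]
      linear_combination (∏ z ∈ Finset.univ.erase (⟨y, hy⟩ : s), cc z) * hccg ⟨y, hy⟩
    | zero => simp
    | add y z _ _ hy hz => rw [map_add]; linear_combination hy + hz
    | smul r y _ hy => rw [smul_eq_mul, map_mul]; linear_combination algebraMap A B r * hy
  intro A' B' _ _ _ _ _ _ _ _ _ _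
  let a₀ := ∏ x ∈ xs, a x
  let L : Ideal B' := (K.map (algebraMap A A')).map (algebraMap A' B')
  let π : B →+* B' ⧸ L := (Ideal.Quotient.mk L).comp (algebraMap B B')
  have hπA : ∀ y : A, π (algebraMap A B y) = algebraMap A' (B' ⧸ L) (algebraMap A A' y) := fun y ↦ by
    change Ideal.Quotient.mk L (algebraMap B B' (algebraMap A B y)) = Ideal.Quotient.mk L (algebraMap A' B' _)
    rw [← IsScalarTower.algebraMap_apply, ← IsScalarTower.algebraMap_apply]
  have hint : ∀ x ∈ xs, IsIntegral A' (π x) := by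
    intro x hx
    have hunit : IsUnit (algebraMap A A' (a x)) := by
      have := IsLocalization.Away.algebraMap_isUnit (S := A') a₀
      rw [map_prod, IsUnit.prod_iff] at this
      exact this x hx
    obtain ⟨u, hu⟩ := hunit
    let P : A'[X] := X ^ n x + ∑ i, C ((↑u⁻¹ : A') * algebraMap A A' (t x i)) * X ^ (i : ℕ)
    have hPm : P.Monic := monic_X_pow_add ((degree_sum_le _ _).trans_lt
      ((Finset.sup_lt_iff (WithBot.bot_lt_coe _)).mpr fun i _ ↦
        (degree_C_mul_X_pow_le _ _).trans_lt (WithBot.coe_lt_coe.mpr i.2)))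
    have hP : (aeval (π x) P) ^ (M + 1) = 0 := by
      have h1 : aeval (π x) P = algebraMap A' (B' ⧸ L) ↑u⁻¹ *
          π (algebraMap A B (a x) * x ^ n x + ∑ i, algebraMap A B (t x i) * x ^ (i : ℕ)) := by
        simp only [P, map_add, map_mul, map_sum, map_pow, aeval_X, aeval_C, hπA, mul_add,
          Finset.mul_sum, ← hu]
        simp only [← mul_assoc, ← map_mul, Units.inv_mul, map_one, one_mul]
      rw [h1, mul_pow, ← map_pow π]
      refine mul_eq_zero_of_right _ (Ideal.Quotient.eq_zero_iff_mem.mpr ?_)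
      have := Ideal.mem_map_of_mem (algebraMap B B') (Ideal.pow_mem_pow
        (Ideal.map_mono (Finset.le_sup (f := J) hx) (hJmem x)) (M + 1))
      rw [← Ideal.map_pow, Ideal.map_map, ← IsScalarTower.algebraMap_eq] at this
      change _ ∈ (K.map (algebraMap A A')).map (algebraMap A' B')
      rwa [Ideal.map_map, ← IsScalarTower.algebraMap_eq]
    exact ⟨P ^ (M + 1), hPm.pow _, by rw [← aeval_def, map_pow, hP]⟩
  let S := Algebra.adjoin A' (π '' (xs : Set B))
  have hB : ∀ y : B, π y ∈ S := by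
    intro y
    have hy : y ∈ Algebra.adjoin A (xs : Set B) := hxs ▸ Algebra.mem_top
    induction hy using Algebra.adjoin_induction with
    | mem y hy => exact Algebra.subset_adjoin ⟨y, hy, rfl⟩
    | algebraMap r => rw [hπA]; exact Subalgebra.algebraMap_mem _ _
    | add y z _ _ hy hz => rw [map_add]; exact add_mem hy hz
    | mul y z _ _ hy hz => rw [map_mul]; exact mul_mem hy hz
  have htop : S = ⊤ := by
    rw [eq_top_iff]
    rintro z -
    obtain ⟨z, rfl⟩ := Ideal.Quotient.mk_surjective z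
    obtain ⟨⟨y, ⟨_, k, rfl⟩⟩, hz⟩ := IsLocalization.surj (Submonoid.powers (algebraMap A B a₀)) z
    obtain ⟨v, hv⟩ := (IsLocalization.Away.algebraMap_isUnit (S := A') a₀).pow k
    have he : algebraMap B B' (algebraMap A B a₀ ^ k) = algebraMap A' B' ↑v := by
      rw [hv, map_pow, map_pow, ← IsScalarTower.algebraMap_apply, ← IsScalarTower.algebraMap_apply]
    have hz' : z = algebraMap A' B' ↑v⁻¹ * algebraMap B B' y := by
      change z * algebraMap B B' (algebraMap A B a₀ ^ k) = algebraMap B B' y at hz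
      rw [← hz, he, mul_comm z, ← mul_assoc, ← map_mul, Units.inv_mul, map_one, one_mul]
    rw [hz', map_mul]
    exact mul_mem (Subalgebra.algebraMap_mem S _) (hB y)
  refine Module.finite_def.mpr ?_
  rw [← Algebra.top_toSubmodule, ← htop]
  exact fg_adjoin_of_finite (xs.finite_toSet.image _) (Set.forall_mem_image.mpr hint)

/-- Second stage: a basis modulo `K` near `q`. -/
theorem exists_basis_mod [Module.Flat A B] [Algebra.FinitePresentation A B] (q : Ideal B) [q.IsPrime]
    (huniq : ∀ Q : Ideal B, Q.IsPrime → Q.under A = q.under A → Q = q)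
    (K : Ideal A) (hK : K.FG) (hKq : K ≤ q.under A) [Module.Finite A (B ⧸ K.map (algebraMap A B))]
    (c : B) (hc : c ∉ q) :
    ∃ (a : A) (d : B) (r : ℕ) (ε : Fin r → B), a ∉ q.under A ∧ 0 < r ∧
      algebraMap A B a - c * d ∈ K.map (algebraMap A B) ∧
      (∀ y : B, ∃ (n : ℕ) (t : Fin r → A),
        algebraMap A B a ^ n * y - ∑ i, algebraMap A B (t i) * ε i ∈ K.map (algebraMap A B)) ∧
      ∀ t : Fin r → A, ∑ i, algebraMap A B (t i) * ε i ∈ K.map (algebraMap A B) →
        ∃ n : ℕ, ∀ i, a ^ n * t i ∈ K := by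
  classical
  let p := q.under A
  have hp : p.IsPrime := Ideal.comap_isPrime _ _
  let KB := K.map (algebraMap A B)
  let C := B ⧸ KB
  have hKBq : KB ≤ q := Ideal.map_le_iff_le_comap.mpr hKq
  -- `c` is invertible near `p`
  have : Algebra.IsIntegral A C := Algebra.IsIntegral.of_finite A C
  obtain ⟨a₁, ha₁, ha₁p⟩ : ∃ a₁, algebraMap A C a₁ ∈ Ideal.span {Ideal.Quotient.mk KB c} ∧ a₁ ∉ p := by
    by_contra h
    push Not at h
    obtain ⟨Q, hQ, hQp, hQA⟩ := Ideal.exists_ideal_over_prime_of_isIntegral (S := C) p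
      (Ideal.span {Ideal.Quotient.mk KB c}) (fun y hy ↦ h y hy)
    have : Q.comap (Ideal.Quotient.mk KB) = q := huniq _ inferInstance hQA
    exact hc (this ▸ hQ (Ideal.mem_span_singleton_self _))
  obtain ⟨d', hd⟩ := Ideal.mem_span_singleton.mp ha₁
  obtain ⟨d₁, rfl⟩ := Ideal.Quotient.mk_surjective d'
  -- `C` as a module over `R = A / K`
  let R := A ⧸ K
  let e₀ : R ⊗[A] B ≃ₐ[A] C := (Algebra.TensorProduct.comm A R B).trans
    ((Algebra.TensorProduct.quotIdealMapEquivTensorQuot B K).symm.restrictScalars A)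
  let _ : Algebra R C := (e₀.toAlgHom.comp
    (Algebra.TensorProduct.includeLeft : R →ₐ[A] R ⊗[A] B)).toRingHom.toAlgebra
  have : IsScalarTower A R C := IsScalarTower.of_algebraMap_eq fun x ↦
    ((e₀.toAlgHom.comp (Algebra.TensorProduct.includeLeft : R →ₐ[A] R ⊗[A] B)).commutes x).symm
  let e : R ⊗[A] B ≃ₐ[R] C := { e₀ with commutes' := fun x ↦ rfl }
  have : Algebra.FinitePresentation R C := Algebra.FinitePresentation.equiv e
  have : Module.Flat R C := Module.Flat.of_linearEquiv e.symm.toLinearEquiv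
  have : Module.Finite R C := Module.Finite.of_restrictScalars_finite A R C
  have : Module.FinitePresentation R C := Module.FinitePresentation.of_finite_of_finitePresentation R C
  let pR : Ideal R := p.map (Ideal.Quotient.mk K)
  have hpR : pR.IsPrime := Ideal.map_isPrime_of_surjective Ideal.Quotient.mk_surjective
    (Ideal.mk_ker.trans_le hKq)
  let Rp := Localization.AtPrime pR
  let Cp := LocalizedModule pR.primeCompl C
  have : Module.Finite Rp Cp := Module.Finite.of_isLocalizedModule pR.primeCompl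
    (LocalizedModule.mkLinearMap pR.primeCompl C)
  have : Module.Flat Rp Cp := Module.Flat.isBaseChange R Rp C Cp
    (IsLocalizedModule.isBaseChange pR.primeCompl Rp (LocalizedModule.mkLinearMap pR.primeCompl C))
  have : Module.Free Rp Cp := Module.free_of_flat_of_isLocalRing
  obtain ⟨s, hs, hfree, -⟩ := Module.FinitePresentation.exists_free_localizedModule_powers
    pR.primeCompl (LocalizedModule.mkLinearMap pR.primeCompl C) Rp
  obtain ⟨a₂, rfl⟩ := Ideal.Quotient.mk_surjective s
  have ha₂ : a₂ ∉ p := fun h ↦ hs (Ideal.mem_map_of_mem _ h)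
  let S := Submonoid.powers (Ideal.Quotient.mk K a₂)
  let Rs := Localization S
  let Cs := LocalizedModule S C
  let f := LocalizedModule.mkLinearMap S C
  have : Module.Finite Rs Cs := Module.Finite.of_isLocalizedModule S f
  by_cases hnt : Subsingleton Rs
  · exfalso
    have h0 : (0 : R) ∈ S := IsLocalization.subsingleton_iff.mp hnt
    obtain ⟨k, hk⟩ := h0
    refine ha₂ (hp.mem_of_pow_mem k (hKq ?_))
    rw [← Ideal.Quotient.eq_zero_iff_mem, map_pow]
    exact hk
  have := not_subsingleton_iff_nontrivial.mp hnt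
  let bas := Module.finBasis Rs Cs
  let r := Module.finrank Rs Cs
  choose m hm using fun i : Fin r ↦ IsLocalizedModule.surj S f (bas i)
  choose ε hε using fun i : Fin r ↦ Ideal.Quotient.mk_surjective (I := KB) (m i).1
  have hsmul : ∀ (x : A) (y : B), Ideal.Quotient.mk K x • (Ideal.Quotient.mk KB y) =
      Ideal.Quotient.mk KB (algebraMap A B x * y) := by
    intro x y
    rw [← Ideal.Quotient.algebraMap_eq K, algebraMap_smul, map_mul, Algebra.smul_def]
    rfl
  -- the scaled basis
  have hu : ∀ s : S, IsUnit (algebraMap R Rs (s : R)) := IsLocalization.map_units Rs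
  have hfm : ∀ i, f (m i).1 = algebraMap R Rs ((m i).2 : R) • bas i := fun i ↦ by
    rw [algebraMap_smul, ← hm i]
    rfl
  have hsum : ∀ t : Fin r → R, f (∑ i, t i • (m i).1) =
      ∑ i, (algebraMap R Rs (t i * ((m i).2 : R))) • bas i := fun t ↦ by
    simp only [map_sum, map_smul, hfm, map_mul, mul_smul, algebraMap_smul]
  have hspan : ∀ y : B, ∃ (n : ℕ) (t : Fin r → A),
      algebraMap A B a₂ ^ n * y - ∑ i, algebraMap A B (t i) * ε i ∈ KB := by
    intro y
    choose w hw using fun i : Fin r ↦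
      IsLocalization.surj S ((bas.repr (f (Ideal.Quotient.mk KB y))) i * ↑(hu (m i).2).unit⁻¹)
    -- common denominator
    let N : S := ∏ i, (w i).2
    let t : Fin r → R := fun i ↦ (w i).1 * ((∏ j ∈ Finset.univ.erase i, (w j).2 : S) : R)
    have key : f (∑ i, t i • (m i).1) = f ((N : R) • Ideal.Quotient.mk KB y) := by
      rw [hsum, map_smul, ← algebraMap_smul Rs (N : R) (f (Ideal.Quotient.mk KB y))]
      conv_rhs => rw [← bas.sum_repr (f (Ideal.Quotient.mk KB y)), Finset.smul_sum]
      refine Finset.sum_congr rfl fun i _ ↦ ?_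
      rw [smul_smul]
      congr 1
      have hN : (N : R) = ((∏ j ∈ Finset.univ.erase i, (w j).2 : S) : R) * ((w i).2 : R) := by
        simp only [N, ← Submonoid.coe_mul, Finset.prod_erase_mul _ _ (Finset.mem_univ i)]
      simp only [t, hN, map_mul]
      have := (hu (m i).2).val_inv_mul
      linear_combination (algebraMap R Rs ((∏ j ∈ Finset.univ.erase i, (w j).2 : S) : R) *
        algebraMap R Rs ((w i).2 : R) * bas.repr (f (Ideal.Quotient.mk KB y)) i) * this -
        (algebraMap R Rs ((∏ j ∈ Finset.univ.erase i, (w j).2 : S) : R) *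
        algebraMap R Rs ((m i).2 : R)) * hw i
    obtain ⟨⟨_, k, rfl⟩, hk⟩ := IsLocalizedModule.exists_of_eq (S := S) key
    obtain ⟨l, hl⟩ := N.2
    choose t' ht' using fun i ↦ Ideal.Quotient.mk_surjective (t i)
    refine ⟨k + l, fun i ↦ a₂ ^ k * t' i, ?_⟩
    simp only [Submonoid.smul_def] at hk
    simp only at hl
    rw [← hl, ← map_pow, ← map_pow, smul_smul, ← map_mul, Finset.smul_sum] at hk
    simp only [← hε, ← ht', smul_smul, ← map_mul, hsmul, ← map_sum] at hk
    rw [← pow_add, eq_comm, Ideal.Quotient.eq, map_pow] at hk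
    simpa [mul_assoc] using hk
  have hindep : ∀ t : Fin r → A, ∑ i, algebraMap A B (t i) * ε i ∈ KB → ∃ n, ∀ i, a₂ ^ n * t i ∈ K := by
    intro t ht
    have h0 : f (∑ i, Ideal.Quotient.mk K (t i) • (m i).1) = 0 := by
      simp only [← hε, hsmul, ← map_sum, Ideal.Quotient.eq_zero_iff_mem.mpr ht, map_zero]
    rw [hsum] at h0
    have hzero : ∀ i, algebraMap R Rs (Ideal.Quotient.mk K (t i)) = 0 := fun i ↦ by
      have := Fintype.linearIndependent_iff.mp bas.linearIndependent _ h0 i
      rw [map_mul] at this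
      exact (hu (m i).2).mul_left_eq_zero.mp this
    have hex : ∀ i, ∃ n, a₂ ^ n * t i ∈ K := fun i ↦ by
      obtain ⟨⟨_, k, rfl⟩, hk⟩ := (IsLocalization.map_eq_zero_iff S Rs _).mp (hzero i)
      refine ⟨k, ?_⟩
      rw [← Ideal.Quotient.eq_zero_iff_mem, map_mul, map_pow]
      exact hk
    choose n hn using hex
    refine ⟨∑ i, n i, fun i ↦ ?_⟩
    rw [← Finset.add_sum_erase _ _ (Finset.mem_univ i), pow_add, mul_right_comm]
    exact Ideal.mul_mem_right _ _ (hn i)
  refine ⟨a₁ * a₂, d₁ * algebraMap A B a₂, r, ε, fun h ↦ (hp.mem_or_mem h).elim ha₁p ha₂,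
    ?_, ?_, ?_, ?_⟩
  · by_contra hr
    obtain ⟨n, t, h⟩ := hspan 1
    rw [Finset.sum_eq_zero (fun i _ ↦ absurd i.2 (by omega)), sub_zero, mul_one] at h
    exact ha₂ (Ideal.IsPrime.mem_of_pow_mem ‹q.IsPrime› n (hKBq h))
  · rw [map_mul, ← mul_assoc, ← sub_mul]
    refine Ideal.mul_mem_right _ _ (Ideal.Quotient.eq.mp ?_)
    rw [map_mul, ← hd]
    rfl
  · intro y
    obtain ⟨n, t, h⟩ := hspan y
    refine ⟨n, fun i ↦ a₁ ^ n * t i, ?_⟩
    have := Ideal.mul_mem_left KB (algebraMap A B a₁ ^ n) h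
    simp only [map_mul, map_pow, mul_pow, mul_sub, Finset.mul_sum, ← mul_assoc] at this ⊢
    exact this
  · intro t ht
    obtain ⟨n, hn⟩ := hindep t ht
    refine ⟨n, fun i ↦ ?_⟩
    rw [mul_pow, mul_assoc]
    exact Ideal.mul_mem_left _ _ (hn i)

/-- Third stage, in the localisations. -/
theorem transfer_basis (K : Ideal A) (c d : B) (a : A) {r : ℕ} (ε : Fin r → B)
    (hcd : algebraMap A B a - c * d ∈ K.map (algebraMap A B))
    (hS : ∀ y : B, ∃ (n : ℕ) (t : Fin r → A),
        algebraMap A B a ^ n * y - ∑ i, algebraMap A B (t i) * ε i ∈ K.map (algebraMap A B))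
    (hI : ∀ t : Fin r → A, ∑ i, algebraMap A B (t i) * ε i ∈ K.map (algebraMap A B) →
        ∃ n : ℕ, ∀ i, a ^ n * t i ∈ K)
    (A' B' : Type u) [CommRing A'] [CommRing B'] [Algebra A A'] [Algebra B B'] [Algebra A B']
    [Algebra A' B'] [IsScalarTower A A' B'] [IsScalarTower A B B'] [IsLocalization.Away a A']
    [IsLocalization.Away (c * algebraMap A B a) B'] :
    let K' := K.map (algebraMap A A')
    let ε' := fun i ↦ algebraMap B B' (ε i)
    (∀ y : B', ∃ t : Fin r → A', y - ∑ i, algebraMap A' B' (t i) * ε' i ∈ K'.map (algebraMap A' B')) ∧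
      ∀ t : Fin r → A', ∑ i, algebraMap A' B' (t i) * ε' i ∈ K'.map (algebraMap A' B') → ∀ i, t i ∈ K' := by
  intro K' ε'
  let j := algebraMap B B'
  have hKmap : K'.map (algebraMap A' B') = (K.map (algebraMap A B)).map j := by
    rw [Ideal.map_map, Ideal.map_map, ← IsScalarTower.algebraMap_eq, ← IsScalarTower.algebraMap_eq]
  have hjA : ∀ x : A, j (algebraMap A B x) = algebraMap A' B' (algebraMap A A' x) := fun x ↦ by
    simp only [j, ← IsScalarTower.algebraMap_apply]
  obtain ⟨ua, hua⟩ := IsLocalization.Away.algebraMap_isUnit (S := A') a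
  have huc : IsUnit (j (c * algebraMap A B a)) := IsLocalization.Away.algebraMap_isUnit _
  refine ⟨fun y ↦ ?_, fun t ht ↦ ?_⟩
  · obtain ⟨⟨y₀, ⟨_, k, rfl⟩⟩, hy⟩ := IsLocalization.surj (Submonoid.powers (c * algebraMap A B a)) y
    obtain ⟨n, t, ht⟩ := hS (y₀ * d ^ k)
    refine ⟨fun i ↦ ↑(ua ^ (n + 2 * k))⁻¹ * algebraMap A A' (t i), ?_⟩
    rw [← Ideal.unit_mul_mem_iff_mem _ ((ua ^ (n + 2 * k)).isUnit.map (algebraMap A' B'))]
    have key : algebraMap A' B' ↑(ua ^ (n + 2 * k)) *
        (y - ∑ i, algebraMap A' B' (↑(ua ^ (n + 2 * k))⁻¹ * algebraMap A A' (t i)) * ε' i) =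
        y * j (algebraMap A B a ^ (n + k) * (algebraMap A B a ^ k - (c * d) ^ k)) +
          j (algebraMap A B a ^ n * (y₀ * d ^ k) - ∑ i, algebraMap A B (t i) * ε i) := by
      have h1 : algebraMap A' B' ↑(ua ^ (n + 2 * k)) = j (algebraMap A B a ^ (n + 2 * k)) := by
        rw [Units.val_pow_eq_pow_val, hua, map_pow, map_pow, hjA]
      simp only [mul_sub, Finset.mul_sum, ← mul_assoc, ← map_mul (algebraMap A' B'), Units.mul_inv,
        one_mul, map_sub, map_sum, map_mul j, hjA, ε']
      rw [h1]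
      have hy' : j y₀ = y * j ((c * algebraMap A B a) ^ k) := hy.symm
      simp only [j, map_pow, map_mul] at hy' ⊢
      rw [hy']
      ring
    rw [key, hKmap]
    refine Ideal.add_mem _ (Ideal.mul_mem_left _ _ (Ideal.mem_map_of_mem _ (Ideal.mul_mem_left _ _ ?_)))
      (Ideal.mem_map_of_mem _ ht)
    obtain ⟨z, hz⟩ := sub_dvd_pow_sub_pow (algebraMap A B a) (c * d) k
    rw [hz]
    exact Ideal.mul_mem_right _ _ hcd
  · choose w hw using fun i ↦ IsLocalization.surj (Submonoid.powers a) (t i)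
    choose k hk using fun i ↦ (w i).2.2
    let N := ∑ i, k i
    let t₀ : Fin r → A := fun i ↦ (w i).1 * a ^ (N - k i)
    have ht₀ : ∀ i, algebraMap A A' (t₀ i) = t i * algebraMap A A' (a ^ N) := fun i ↦ by
      simp only [t₀, map_mul, ← hw i]
      rw [mul_assoc, ← map_mul]
      congr 2
      simp only [← hk i]
      rw [← pow_add, Nat.add_sub_cancel' (Finset.single_le_sum (fun _ _ ↦ Nat.zero_le _) (Finset.mem_univ i))]
    have hmem : j (∑ i, algebraMap A B (t₀ i) * ε i) ∈ (K.map (algebraMap A B)).map j := by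
      simp only [map_sum, map_mul, hjA, ht₀]
      rw [← hKmap]
      have := Ideal.mul_mem_left _ (algebraMap A' B' (algebraMap A A' (a ^ N))) ht
      rw [Finset.mul_sum] at this
      convert this using 1
      exact Finset.sum_congr rfl fun i _ ↦ by simp only [ε', j, map_mul]; ring
    obtain ⟨_, ⟨l, rfl⟩, hl⟩ :=
      (IsLocalization.algebraMap_mem_map_algebraMap_iff (Submonoid.powers (c * algebraMap A B a)) B' _ _).mp hmem
    have h2 : ∑ i, algebraMap A B (a ^ (2 * l) * t₀ i) * ε i ∈ K.map (algebraMap A B) := by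
      obtain ⟨z, hz⟩ := sub_dvd_pow_sub_pow (algebraMap A B a) (c * d) l
      have e : ∑ i, algebraMap A B (a ^ (2 * l) * t₀ i) * ε i =
          d ^ l * ((c * algebraMap A B a) ^ l * ∑ i, algebraMap A B (t₀ i) * ε i) +
          (algebraMap A B a ^ l - (c * d) ^ l) * (algebraMap A B a ^ l * ∑ i, algebraMap A B (t₀ i) * ε i) := by
        simp only [map_mul, map_pow, mul_assoc, ← Finset.mul_sum]
        ring
      rw [e]
      exact Ideal.add_mem _ (Ideal.mul_mem_left _ _ hl)
        (Ideal.mul_mem_right _ _ (hz ▸ Ideal.mul_mem_right _ _ hcd))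
    obtain ⟨n, hn⟩ := hI _ h2
    intro i
    rw [← Ideal.mul_unit_mem_iff_mem _ (((ua.isUnit).pow N).mul ((ua.isUnit).pow (n + 2 * l))),
      hua, ← map_pow, ← map_pow, ← mul_assoc, ← ht₀, ← map_mul]
    refine Ideal.mem_map_of_mem _ ?_
    convert hn i using 1
    ring

/-- With a basis modulo `K`, elements killed by `K` come from `Ann K`. -/
theorem exists_map_of_basis [Module.Flat A B] (K : Ideal A) (hK : K.FG) {r : ℕ} (ε : Fin r → B)
    (hS : ∀ y : B, ∃ t : Fin r → A, y - ∑ i, algebraMap A B (t i) * ε i ∈ K.map (algebraMap A B))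
    (hI : ∀ t : Fin r → A, ∑ i, algebraMap A B (t i) * ε i ∈ K.map (algebraMap A B) → ∀ i, t i ∈ K)
    (g : B) (hg : ∀ y ∈ K, algebraMap A B y * g = 0) :
    ∃ φ : (Fin r → ↥K.annihilator) →ₗ[A] B, Function.Injective φ ∧ g ∈ LinearMap.range φ := by
  classical
  let φ : (Fin r → ↥K.annihilator) →ₗ[A] B :=
    { toFun := fun F ↦ ∑ i, algebraMap A B (F i : A) * ε i
      map_add' := fun F G ↦ by
        simp only [Pi.add_apply, Submodule.coe_add, map_add, add_mul, Finset.sum_add_distrib]
      map_smul' := fun x F ↦ by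
        simp only [Pi.smul_apply, SetLike.val_smul, smul_eq_mul, map_mul, RingHom.id_apply,
          Algebra.smul_def, Finset.mul_sum, mul_assoc] }
  have hmulK : ∀ f ∈ K.annihilator, ∀ y ∈ K, f * y = 0 := fun f hf y hy ↦
    Submodule.mem_annihilator.mp hf y hy
  have hann : ∀ f ∈ K.annihilator, ∀ y ∈ K.map (algebraMap A B), algebraMap A B f * y = 0 := by
    intro f hf y hy
    have hle : K.map (algebraMap A B) ≤ LinearMap.ker (LinearMap.mulLeft B (algebraMap A B f)) :=
      Ideal.map_le_iff_le_comap.mpr fun x hx ↦ by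
        change algebraMap A B f * algebraMap A B x = 0
        rw [← map_mul, hmulK f hf x hx, map_zero]
    exact hle hy
  refine ⟨φ, (injective_iff_map_eq_zero φ).mpr fun F hF ↦ ?_, ?_⟩
  · have hF' : ∑ i, (F i : A) • ε i = 0 := by simpa [φ, Algebra.smul_def] using hF
    obtain ⟨k, a, y, hεy, ha⟩ := Module.Flat.isTrivialRelation_of_sum_smul_eq_zero hF'
    choose t ht using fun j ↦ hS (y j)
    refine funext fun l ↦ Subtype.ext ?_
    change (F l : A) = 0
    have hmem : ∀ i, (if i = l then (1 : A) else 0) - ∑ j, a i j * t j l ∈ K := by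
      intro i
      refine hI (fun m ↦ (if i = m then (1 : A) else 0) - ∑ j, a i j * t j m) ?_ l
      have : ∑ m, algebraMap A B ((if i = m then (1 : A) else 0) - ∑ j, a i j * t j m) * ε m =
          ∑ j, algebraMap A B (a i j) * (y j - ∑ m, algebraMap A B (t j m) * ε m) := by
        simp only [map_sub, map_sum, map_mul, sub_mul, mul_sub, Finset.sum_sub_distrib, Finset.mul_sum,
          Finset.sum_mul, ← mul_assoc]
        congr 1
        · simp only [apply_ite (algebraMap A B), map_one, map_zero, ite_mul, one_mul, zero_mul,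
            Finset.sum_ite_eq, Finset.mem_univ, if_true]
          rw [hεy i]
          simp only [Algebra.smul_def]
        · exact Finset.sum_comm
      rw [this]
      exact Ideal.sum_mem _ fun j _ ↦ Ideal.mul_mem_left _ _ (ht j)
    have h0 : ∑ i, (F i : A) * ((if i = l then (1 : A) else 0) - ∑ j, a i j * t j l) = 0 :=
      Finset.sum_eq_zero fun i _ ↦ hmulK _ (F i).2 _ (hmem i)
    simp only [mul_sub, Finset.sum_sub_distrib, mul_ite, mul_one, mul_zero, Finset.sum_ite_eq',
      Finset.mem_univ, if_true, Finset.mul_sum] at h0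
    rw [sub_eq_zero, Finset.sum_comm] at h0
    rw [h0]
    refine Finset.sum_eq_zero fun j _ ↦ ?_
    simp only [← mul_assoc, ← Finset.sum_mul, ha j, zero_mul]
  · obtain ⟨s, hs⟩ := hK
    have hstep : ∀ u : Finset A, u ⊆ s → ∃ (n : ℕ) (f : Fin n → A) (z : Fin n → B),
        g = ∑ i, algebraMap A B (f i) * z i ∧ ∀ i, ∀ y ∈ u, f i * y = 0 := by
      intro u
      induction u using Finset.induction_on with
      | empty => exact fun _ ↦ ⟨1, fun _ ↦ 1, fun _ ↦ g, by simp, fun _ y hy ↦ absurd hy (by simp)⟩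
      | insert y u _ ih =>
        intro hus
        obtain ⟨n, f, z, hgz, hf⟩ := ih ((Finset.subset_insert _ _).trans hus)
        have hy : ∑ i, (f i * y) • z i = 0 := by
          have hyK : y ∈ K := hs ▸ Ideal.subset_span (hus (Finset.mem_insert_self _ _))
          have := hg y hyK
          rw [hgz, Finset.mul_sum] at this
          simpa [Algebra.smul_def, mul_comm (f _) y, mul_assoc] using this
        obtain ⟨k, a, w, hzw, ha⟩ := Module.Flat.isTrivialRelation_of_sum_smul_eq_zero hy
        refine ⟨k, fun j ↦ ∑ i, f i * a i j, w, ?_, fun j x hx ↦ ?_⟩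
        · rw [hgz]
          simp only [hzw, Algebra.smul_def, Finset.mul_sum, map_sum, map_mul, Finset.sum_mul, mul_assoc]
          exact Finset.sum_comm
        · rw [Finset.sum_mul]
          rcases Finset.mem_insert.mp hx with rfl | hx
          · rw [← ha j]
            exact Finset.sum_congr rfl fun i _ ↦ mul_right_comm _ _ _
          · exact Finset.sum_eq_zero fun i _ ↦ by rw [mul_right_comm, hf i x hx, zero_mul]
    obtain ⟨n, f, z, hgz, hf⟩ := hstep s subset_rfl
    have hfK : ∀ i, f i ∈ K.annihilator := fun i ↦ Submodule.mem_annihilator.mpr fun y hy ↦ by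
      rw [← hs] at hy
      induction hy using Submodule.span_induction with
      | mem y hy => exact hf i y hy
      | zero => simp
      | add y w _ _ h h' => rw [smul_add, h, h', add_zero]
      | smul r y _ h => rw [smul_comm, h, smul_zero]
    choose t ht using fun i ↦ hS (z i)
    refine ⟨fun m ↦ ⟨∑ i, f i * t i m, Ideal.sum_mem _ fun i _ ↦ Ideal.mul_mem_right _ _ (hfK i)⟩, ?_⟩
    change ∑ m, algebraMap A B (∑ i, f i * t i m) * ε m = g
    rw [hgz]
    simp only [map_sum, map_mul, Finset.sum_mul, mul_assoc]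
    rw [Finset.sum_comm]
    refine Finset.sum_congr rfl fun i _ ↦ ?_
    rw [← Finset.mul_sum, ← sub_eq_zero, ← mul_sub, ← neg_sub (z i), mul_neg, hann _ (hfK i) _ (ht i),
      neg_zero]

end

end Groth.Agent.QFTorsion
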