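/-
Sections of flat quasi-finite morphisms lie in the image of torsion free modules (helper33).
-/
import Groth.Agent.QFTorsion.Basic
import Mathlib.AlgebraicGeometry.Morphisms.QuasiFinite
import Mathlib.AlgebraicGeometry.Morphisms.Flat
import Mathlib.AlgebraicGeometry.Morphisms.FinitePresentation

set_option autoImplicit false
universe u
open CategoryTheory AlgebraicGeometry

namespace Groth.Agent.QFTorsion

/-- Elements of a prime minimal over an ideal are nilpotent modulo the ideal near that prime. -/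
theorem exists_mul_pow_mem {R : Type u} [CommRing R] {I q : Ideal R} (hq : q ∈ I.minimalPrimes)
    {y : R} (hy : y ∈ q) : ∃ c ∉ q, ∃ n : ℕ, c * y ^ n ∈ I := by
  by_contra h
  push Not at h
  have := hq.1.1
  obtain ⟨P, hP, hIP, hdisj⟩ := Ideal.exists_le_prime_disjoint I (q.primeCompl ⊔ Submonoid.powers y) (by
    rw [Set.disjoint_right]
    intro z hz hzI
    obtain ⟨c, hc, _, ⟨n, rfl⟩, rfl⟩ := Submonoid.mem_sup.mp hz
    exact h c hc n hzI)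
  have hPq : P ≤ q := fun z hz ↦ by
    by_contra hzq
    exact Set.disjoint_left.mp hdisj hz (Submonoid.mem_sup_left hzq)
  exact Set.disjoint_left.mp hdisj (hq.2 ⟨hP, hIP⟩ hPq hy)
    (Submonoid.mem_sup_right (Submonoid.mem_powers y))

variable {X S : Scheme.{u}}

/-- The point `x` is where a section is supported minimally. -/
def IsMinSupport (g : Γ(X, ⊤)) (x : X) : Prop :=
  X.presheaf.germ ⊤ x trivial g ≠ 0 ∧
    ∀ m ∈ IsLocalRing.maximalIdeal (X.presheaf.stalk x), ∃ n : ℕ, m ^ n * X.presheaf.germ ⊤ x trivial g = 0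

theorem exists_minSupport (g : Γ(X, ⊤)) (hg : g ≠ 0) : ∃ x, IsMinSupport g x := by
  obtain ⟨x₀, hx₀⟩ : ∃ x₀, X.presheaf.germ ⊤ x₀ trivial g ≠ 0 := by
    by_contra h
    push Not at h
    exact hg (TopCat.Presheaf.section_ext X.sheaf ⊤ g 0 fun p _ ↦ (h p).trans (map_zero _).symm)
  obtain ⟨V, hV, hxV, -⟩ := exists_isAffineOpen_mem_and_subset (x := x₀) (U := ⊤) trivial
  let gV : Γ(X, V) := X.presheaf.map (homOfLE le_top).op g
  have hgerm : ∀ x (hx : x ∈ V), X.presheaf.germ V x hx gV = X.presheaf.germ ⊤ x trivial g :=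
    fun x hx ↦ TopCat.Presheaf.germ_res_apply X.presheaf (homOfLE le_top) x hx g
  let I : Ideal Γ(X, V) := (Submodule.span Γ(X, V) {gV}).annihilator
  have hmem : ∀ y, y ∈ I ↔ y * gV = 0 := fun y ↦ Submodule.mem_annihilator_span_singleton _ _
  have hI : I ≠ ⊤ := fun h ↦ hx₀ (by
    have : gV = 0 := by simpa using (hmem 1).mp (h ▸ Submodule.mem_top)
    rw [← hgerm x₀ hxV, this, map_zero])
  obtain ⟨q, hq⟩ := Ideal.nonempty_minimalPrimes hI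
  let qp : PrimeSpectrum Γ(X, V) := ⟨q, hq.1.1⟩
  have : qp.asIdeal.IsPrime := hq.1.1
  have hxmem : hV.fromSpec qp ∈ V := hV.range_fromSpec.le ⟨qp, rfl⟩
  refine ⟨hV.fromSpec qp, ?_⟩
  let _ := TopCat.Presheaf.algebra_section_stalk X.presheaf (⟨hV.fromSpec qp, hxmem⟩ : V)
  have : IsLocalization.AtPrime (X.presheaf.stalk (hV.fromSpec qp)) qp.asIdeal :=
    hV.isLocalization_stalk' qp hxmem
  refine ⟨fun h ↦ ?_, fun m hm ↦ ?_⟩
  · rw [← hgerm _ hxmem] at h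
    obtain ⟨⟨c, hc⟩, hcg⟩ := (IsLocalization.map_eq_zero_iff qp.asIdeal.primeCompl _ gV).mp h
    exact hc (hq.1.2 ((hmem c).mpr hcg))
  · obtain ⟨⟨y, s⟩, rfl⟩ := IsLocalization.mk'_surjective qp.asIdeal.primeCompl m
    have hy : y ∈ q := (IsLocalization.AtPrime.mk'_mem_maximal_iff _ qp.asIdeal _ _).mp hm
    obtain ⟨c, hc, n, hn⟩ := exists_mul_pow_mem hq hy
    refine ⟨n, ?_⟩
    rw [← hgerm _ hxmem, ← IsLocalization.mk'_pow]
    change _ * algebraMap Γ(X, V) _ gV = 0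
    rw [mul_comm, IsLocalization.mul_mk'_eq_mk'_of_mul, IsLocalization.mk'_eq_zero_iff]
    exact ⟨⟨c, hc⟩, by rw [← (hmem _).mp hn]; ring⟩

theorem IsMinSupport.local {g : Γ(X, ⊤)} {x : X} (h : IsMinSupport g x) {V : X.Opens}
    (hV : IsAffineOpen V) (hx : x ∈ V) (y : Γ(X, V)) (hy : y ∈ (hV.primeIdealOf ⟨x, hx⟩).asIdeal) :
    ∃ c ∉ (hV.primeIdealOf ⟨x, hx⟩).asIdeal, ∃ n : ℕ,
      c * y ^ n * X.presheaf.map (homOfLE le_top).op g = 0 := by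
  let q := (hV.primeIdealOf ⟨x, hx⟩).asIdeal
  let _ := TopCat.Presheaf.algebra_section_stalk X.presheaf (⟨x, hx⟩ : V)
  have : IsLocalization.AtPrime (X.presheaf.stalk x) q := hV.isLocalization_stalk ⟨x, hx⟩
  obtain ⟨n, hn⟩ := h.2 _ ((IsLocalization.AtPrime.to_map_mem_maximal_iff (X.presheaf.stalk x) q y).mpr hy)
  rw [← TopCat.Presheaf.germ_res_apply X.presheaf (homOfLE (le_top : V ≤ ⊤)) x hx g] at hn
  change algebraMap Γ(X, V) _ y ^ n * algebraMap Γ(X, V) _ _ = 0 at hn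
  rw [← map_pow, ← map_mul] at hn
  obtain ⟨⟨c, hc⟩, hc'⟩ := (IsLocalization.map_eq_zero_iff q.primeCompl _ _).mp hn
  exact ⟨c, hc, n, by rw [mul_assoc]; exact hc'⟩

theorem IsMinSupport.res_ne_zero {g : Γ(X, ⊤)} {x : X} (h : IsMinSupport g x) {V : X.Opens}
    (hx : x ∈ V) : X.presheaf.map (homOfLE le_top).op g ≠ (0 : Γ(X, V)) := fun h0 ↦ h.1 (by
  rw [← TopCat.Presheaf.germ_res_apply X.presheaf (homOfLE (le_top : V ≤ ⊤)) x hx g, h0, map_zero])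

/-- The only prime of an open meeting the fibre only in `x`. -/
theorem eq_primeIdealOf (f : X ⟶ S) {U : S.Opens} (hU : IsAffineOpen U) {V : X.Opens}
    (hV : IsAffineOpen V) (hVU : V ≤ f ⁻¹ᵁ U) {x : X} (hx : x ∈ V)
    (huniq : ∀ z ∈ V, f z = f x → z = x) :
    letI := (f.appLE U V hVU).hom.toAlgebra
    ∀ Q : Ideal Γ(X, V), Q.IsPrime → Q.under Γ(S, U) = (hV.primeIdealOf ⟨x, hx⟩).asIdeal.under Γ(S, U) →
      Q = (hV.primeIdealOf ⟨x, hx⟩).asIdeal := by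
  intro Q hQ h
  let Qp : PrimeSpectrum Γ(X, V) := ⟨Q, hQ⟩
  let qp := hV.primeIdealOf ⟨x, hx⟩
  have hzV : hV.fromSpec Qp ∈ V := hV.range_fromSpec.le ⟨Qp, rfl⟩
  have hfz : ∀ P : PrimeSpectrum Γ(X, V), f (hV.fromSpec P) = hU.fromSpec (Spec.map (f.appLE U V hVU) P) := by
    intro P
    rw [← Scheme.Hom.comp_apply, ← IsAffineOpen.SpecMap_appLE_fromSpec f hU hV hVU, Scheme.Hom.comp_apply]
  have hsame : Spec.map (f.appLE U V hVU) Qp = Spec.map (f.appLE U V hVU) qp := PrimeSpectrum.ext h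
  have hz : hV.fromSpec Qp = x := huniq _ hzV (by
    rw [hfz, hsame, ← hfz, hV.fromSpec_primeIdealOf])
  have : Qp = qp := hV.fromSpec.isOpenEmbedding.injective (hz.trans (hV.fromSpec_primeIdealOf ⟨x, hx⟩).symm)
  exact congr_arg PrimeSpectrum.asIdeal this

set_option backward.isDefEq.respectTransparency false in
theorem exists_chart_map (f : X ⟶ S) [Flat f] [LocallyOfFinitePresentation f] [LocallyQuasiFinite f]
    (g : Γ(X, ⊤)) (hg : g ≠ 0) :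
    ∃ (U : S.Opens) (_ : IsAffineOpen U) (V : X.Opens) (_ : IsAffineOpen V) (hVU : V ≤ f ⁻¹ᵁ U),
      X.presheaf.map (homOfLE le_top).op g ≠ (0 : Γ(X, V)) ∧
      ∃ (F : Ideal Γ(S, U)) (r : ℕ), 0 < r ∧
        letI := (f.appLE U V hVU).hom.toAlgebra
        ∃ φ : (Fin r → ↥F) →ₗ[Γ(S, U)] Γ(X, V), Function.Injective φ ∧
          X.presheaf.map (homOfLE le_top).op g ∈ LinearMap.range φ := by
  obtain ⟨x, hx⟩ := exists_minSupport g hg
  obtain ⟨U₀, hU₀, hxU₀, -⟩ := exists_isAffineOpen_mem_and_subset (x := f x) (U := ⊤) trivial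
  obtain ⟨W, hW, hWx⟩ := isDiscrete_iff_forall_mem_exists_isOpen.mp (f.isDiscrete_preimage_singleton (f x)) x rfl
  have hxW : x ∈ W := ((Set.ext_iff.mp hWx x).mpr rfl).1
  obtain ⟨V₀, hV₀, hxV₀, hV₀W⟩ :=
    exists_isAffineOpen_mem_and_subset (x := x) (U := f ⁻¹ᵁ U₀ ⊓ ⟨W, hW⟩) ⟨hxU₀, hxW⟩
  have hV₀U : V₀ ≤ f ⁻¹ᵁ U₀ := fun z hz ↦ (hV₀W hz).1
  have huniq₀ : ∀ z ∈ V₀, f z = f x → z = x := fun z hz hfz ↦
    (Set.ext_iff.mp hWx z).mp ⟨(hV₀W hz).2, hfz⟩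
  let A := Γ(S, U₀)
  let B := Γ(X, V₀)
  algebraize [(f.appLE U₀ V₀ hV₀U).hom]
  have : Algebra.FinitePresentation A B :=
    HasRingHomProperty.appLE @LocallyOfFinitePresentation f inferInstance ⟨U₀, hU₀⟩ ⟨V₀, hV₀⟩ hV₀U
  have : Algebra.QuasiFinite A B :=
    HasRingHomProperty.appLE @LocallyQuasiFinite f inferInstance ⟨U₀, hU₀⟩ ⟨V₀, hV₀⟩ hV₀U
  let q₀ := (hV₀.primeIdealOf ⟨x, hxV₀⟩).asIdeal
  let g₀ : B := X.presheaf.map (homOfLE le_top).op g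
  obtain ⟨a₀, K, c, ha₀, hKfg, hKp, hc, hcK, hfin⟩ :=
    exists_finite_mod (A := A) q₀ g₀ (fun y hy ↦ hx.local hV₀ hxV₀ y hy)
  -- first shrinking
  let U₁ := S.basicOpen a₀
  let V₁ := X.basicOpen (f.appLE U₀ V₀ hV₀U a₀)
  have hU₁ : IsAffineOpen U₁ := hU₀.basicOpen a₀
  have hV₁ : IsAffineOpen V₁ := hV₀.basicOpen _
  have hV₁U : V₁ ≤ f ⁻¹ᵁ U₁ := by
    simp only [V₁, Scheme.basicOpen_appLE]; exact inf_le_right
  have hV₁V₀ : V₁ ≤ V₀ := X.basicOpen_le _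
  have hU₁U₀ : U₁ ≤ U₀ := S.basicOpen_le _
  have hmemV : ∀ (c : B), c ∉ q₀ → x ∈ X.basicOpen c := by
    intro c hc
    have h1 : hV₀.primeIdealOf ⟨x, hxV₀⟩ ∈ hV₀.fromSpec ⁻¹ᵁ X.basicOpen c := by
      rw [hV₀.fromSpec_preimage_basicOpen]; exact hc
    have h2 : hV₀.fromSpec (hV₀.primeIdealOf ⟨x, hxV₀⟩) ∈ X.basicOpen c := h1
    rwa [hV₀.fromSpec_primeIdealOf] at h2
  have hxV₁ : x ∈ V₁ := hmemV _ ha₀
  let A₁ := Γ(S, U₁)
  let B₁ := Γ(X, V₁)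
  algebraize [(f.appLE U₁ V₁ hV₁U).hom]
  let _ : Algebra A A₁ := (S.presheaf.map (homOfLE hU₁U₀).op).hom.toAlgebra
  let _ : Algebra B B₁ := (X.presheaf.map (homOfLE hV₁V₀).op).hom.toAlgebra
  let _ : Algebra A B₁ := (f.appLE U₀ V₁ (hV₁V₀.trans hV₀U)).hom.toAlgebra
  have : IsScalarTower A A₁ B₁ := IsScalarTower.of_algebraMap_eq fun r ↦ by
    change f.appLE U₀ V₁ _ r = f.appLE U₁ V₁ hV₁U (S.presheaf.map (homOfLE hU₁U₀).op r)
    rw [← CommRingCat.comp_apply, Scheme.Hom.map_appLE]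
  have : IsScalarTower A B B₁ := IsScalarTower.of_algebraMap_eq fun r ↦ by
    change f.appLE U₀ V₁ _ r = X.presheaf.map (homOfLE hV₁V₀).op (f.appLE U₀ V₀ hV₀U r)
    rw [← CommRingCat.comp_apply, Scheme.Hom.appLE_map]
  have : IsLocalization.Away a₀ A₁ := hU₀.isLocalization_basicOpen a₀
  have : IsLocalization.Away (algebraMap A B a₀) B₁ := hV₀.isLocalization_basicOpen _
  have hfin₁ := hfin A₁ B₁
  have : Module.Flat A₁ B₁ := HasRingHomProperty.appLE @Flat f inferInstance ⟨U₁, hU₁⟩ ⟨V₁, hV₁⟩ hV₁U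
  have : Algebra.FinitePresentation A₁ B₁ :=
    HasRingHomProperty.appLE @LocallyOfFinitePresentation f inferInstance ⟨U₁, hU₁⟩ ⟨V₁, hV₁⟩ hV₁U
  let q₁ := (hV₁.primeIdealOf ⟨x, hxV₁⟩).asIdeal
  let c₁ : B₁ := algebraMap B B₁ c
  have hq : ∀ y : B, algebraMap B B₁ y ∈ q₁ ↔ y ∈ q₀ := by
    intro y
    have h := congr($(IsAffineOpen.comap_primeIdealOf_appLE (f := 𝟙 X) V₀ hV₀ V₁ hV₁ hV₁V₀ hxV₁).asIdeal)
    have e : (𝟙 X : X ⟶ X).appLE V₀ V₁ hV₁V₀ = X.presheaf.map (homOfLE hV₁V₀).op := by simp [Scheme.Hom.appLE]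
    rw [e] at h
    exact SetLike.ext_iff.mp h y
  have hc₁ : c₁ ∉ q₁ := (hq c).not.mpr hc
  let K₁ := K.map (algebraMap A A₁)
  have hK₁p : K₁ ≤ q₁.under A₁ := Ideal.map_le_iff_le_comap.mpr fun y hy ↦ by
    change algebraMap A₁ B₁ (algebraMap A A₁ y) ∈ q₁
    rw [← IsScalarTower.algebraMap_apply, IsScalarTower.algebraMap_apply A B B₁]
    exact (hq _).mpr (hKp hy)
  obtain ⟨a, d, r, ε, ha, hr, hcd, hspan, hindep⟩ := exists_basis_mod (A := A₁) q₁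
    (eq_primeIdealOf f hU₁ hV₁ hV₁U hxV₁ fun z hz ↦ huniq₀ z (hV₁V₀ hz)) K₁ (hKfg.map _) hK₁p c₁ hc₁
  -- second shrinking
  let U₂ := S.basicOpen a
  let V₂ := X.basicOpen (c₁ * algebraMap A₁ B₁ a)
  have hU₂ : IsAffineOpen U₂ := hU₁.basicOpen a
  have hV₂ : IsAffineOpen V₂ := hV₁.basicOpen _
  have hV₂V₁ : V₂ ≤ V₁ := X.basicOpen_le _
  have hU₂U₁ : U₂ ≤ U₁ := S.basicOpen_le _
  have hV₂U : V₂ ≤ f ⁻¹ᵁ U₂ := by
    refine ((X.basicOpen_mul c₁ (algebraMap A₁ B₁ a)).le.trans inf_le_right).trans ?_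
    change X.basicOpen (f.appLE U₁ V₁ hV₁U a) ≤ _
    rw [Scheme.basicOpen_appLE]
    exact inf_le_right
  have hxV₂ : x ∈ V₂ := by
    have h1 : hV₁.primeIdealOf ⟨x, hxV₁⟩ ∈ hV₁.fromSpec ⁻¹ᵁ X.basicOpen (c₁ * algebraMap A₁ B₁ a) := by
      rw [hV₁.fromSpec_preimage_basicOpen]
      exact fun h ↦ ((hV₁.primeIdealOf ⟨x, hxV₁⟩).2.mem_or_mem h).elim hc₁ ha
    have h2 : hV₁.fromSpec (hV₁.primeIdealOf ⟨x, hxV₁⟩) ∈ V₂ := h1
    rwa [hV₁.fromSpec_primeIdealOf] at h2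
  let A₂ := Γ(S, U₂)
  let B₂ := Γ(X, V₂)
  algebraize [(f.appLE U₂ V₂ hV₂U).hom]
  let _ : Algebra A₁ A₂ := (S.presheaf.map (homOfLE hU₂U₁).op).hom.toAlgebra
  let _ : Algebra B₁ B₂ := (X.presheaf.map (homOfLE hV₂V₁).op).hom.toAlgebra
  let _ : Algebra A₁ B₂ := (f.appLE U₁ V₂ (hV₂V₁.trans hV₁U)).hom.toAlgebra
  have : IsScalarTower A₁ A₂ B₂ := IsScalarTower.of_algebraMap_eq fun r ↦ by
    change f.appLE U₁ V₂ _ r = f.appLE U₂ V₂ hV₂U (S.presheaf.map (homOfLE hU₂U₁).op r)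
    rw [← CommRingCat.comp_apply, Scheme.Hom.map_appLE]
  have : IsScalarTower A₁ B₁ B₂ := IsScalarTower.of_algebraMap_eq fun r ↦ by
    change f.appLE U₁ V₂ _ r = X.presheaf.map (homOfLE hV₂V₁).op (f.appLE U₁ V₁ hV₁U r)
    rw [← CommRingCat.comp_apply, Scheme.Hom.appLE_map]
  have : IsLocalization.Away a A₂ := hU₁.isLocalization_basicOpen a
  have : IsLocalization.Away (c₁ * algebraMap A₁ B₁ a) B₂ := hV₁.isLocalization_basicOpen _
  have : Module.Flat A₂ B₂ := HasRingHomProperty.appLE @Flat f inferInstance ⟨U₂, hU₂⟩ ⟨V₂, hV₂⟩ hV₂U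
  obtain ⟨hS₂, hI₂⟩ := transfer_basis K₁ c₁ d a ε hcd hspan hindep A₂ B₂
  let g₁ : B₁ := X.presheaf.map (homOfLE le_top).op g
  let g₂ : B₂ := X.presheaf.map (homOfLE le_top).op g
  have hg₁ : g₁ = algebraMap B B₁ g₀ := by
    change _ = X.presheaf.map _ (X.presheaf.map _ g)
    rw [← CommRingCat.comp_apply, ← Functor.map_comp]
    rfl
  have hg₂ : g₂ = algebraMap B₁ B₂ g₁ := by
    change _ = X.presheaf.map _ (X.presheaf.map _ g)
    rw [← CommRingCat.comp_apply, ← Functor.map_comp]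
    rfl
  have hcu : IsUnit (algebraMap B₁ B₂ c₁) := by
    have := IsLocalization.Away.algebraMap_isUnit (S := B₂) (c₁ * algebraMap A₁ B₁ a)
    rw [map_mul] at this
    exact isUnit_of_mul_isUnit_left this
  have hkill : ∀ y ∈ K₁.map (algebraMap A₁ A₂), algebraMap A₂ B₂ y * g₂ = 0 := by
    intro y hy
    have h1 : ∀ y ∈ K₁, c₁ * algebraMap A₁ B₁ y * g₁ = 0 := by
      intro y hy
      have hle : K₁ ≤ Submodule.comap (Algebra.linearMap A₁ B₁)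
          (((LinearMap.mulLeft B₁ c₁).comp (LinearMap.mulRight B₁ g₁)).ker.restrictScalars A₁) := by
        refine Ideal.map_le_iff_le_comap.mpr fun z hz ↦ ?_
        change c₁ * (algebraMap A₁ B₁ (algebraMap A A₁ z) * g₁) = 0
        rw [← IsScalarTower.algebraMap_apply, IsScalarTower.algebraMap_apply A B B₁, hg₁, ← map_mul,
          ← map_mul, ← mul_assoc, hcK z hz, map_zero]
      rw [mul_assoc]
      exact hle hy
    have hle : K₁.map (algebraMap A₁ A₂) ≤ Submodule.comap (Algebra.linearMap A₂ B₂)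
        ((LinearMap.mulRight B₂ g₂).ker.restrictScalars A₂) := by
      refine Ideal.map_le_iff_le_comap.mpr fun z hz ↦ ?_
      change algebraMap A₂ B₂ (algebraMap A₁ A₂ z) * g₂ = 0
      rw [← IsScalarTower.algebraMap_apply, IsScalarTower.algebraMap_apply A₁ B₁ B₂, hg₂, ← map_mul]
      refine hcu.mul_right_eq_zero.mp ?_
      rw [← map_mul, ← mul_assoc, h1 z hz, map_zero]
    exact hle hy
  obtain ⟨φ, hφ, hgφ⟩ := exists_map_of_basis (K₁.map (algebraMap A₁ A₂)) ((hKfg.map _).map _)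
    (fun i ↦ algebraMap B₁ B₂ (ε i)) hS₂ hI₂ g₂ hkill
  exact ⟨U₂, hU₂, V₂, hV₂, hV₂U, hx.res_ne_zero hxV₂, _, r, hr, φ, hφ, hgφ⟩

end Groth.Agent.QFTorsion
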